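import Mathlib

set_option autoImplicit false
universe u

namespace Groth.Agent.H8.Quadric

open MvPolynomial

variable {κ : Type u} [Field κ]

/-! ## Basic ideal facts -/

lemma C_eq_zero_of_mem {I : Ideal (MvPolynomial (Fin 2) κ)} (A1 : I ≠ ⊤) {s : κ}
    (hs : (C s : MvPolynomial (Fin 2) κ) ∈ I) : s = 0 := by
  by_contra h
  exact A1 (Ideal.eq_top_of_isUnit_mem _ hs ((isUnit_iff_ne_zero.mpr h).map C))

lemma mem_of_C_mul_mem {I : Ideal (MvPolynomial (Fin 2) κ)} {s : κ} (hs : s ≠ 0)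
    {p : MvPolynomial (Fin 2) κ} (h : C s * p ∈ I) : p ∈ I := by
  have : p = C s⁻¹ * (C s * p) := by
    rw [← mul_assoc, ← map_mul, inv_mul_cancel₀ hs, map_one, one_mul]
  rw [this]; exact I.mul_mem_left _ h

lemma leib_mem (D : MvPolynomial (Fin 2) κ → MvPolynomial (Fin 2) κ)
    (hadd : ∀ p q, D (p + q) = D p + D q) (hmul : ∀ p q, D (p * q) = p * D q + q * D p)
    (I : Ideal (MvPolynomial (Fin 2) κ)) {z : MvPolynomial (Fin 2) κ} (hz : z ∈ I ^ 2) :
    D z ∈ I := by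
  rw [pow_two] at hz
  refine Submodule.smul_induction_on hz ?_ ?_
  · intro r hr n hn
    rw [smul_eq_mul, hmul]
    exact I.add_mem (I.mul_mem_right _ hr) (I.mul_mem_right _ hn)
  · intro x y hx hy
    rw [hadd]; exact I.add_mem hx hy

lemma D_quad (D : MvPolynomial (Fin 2) κ → MvPolynomial (Fin 2) κ)
    (hadd : ∀ p q, D (p + q) = D p + D q) (hmul : ∀ p q, D (p * q) = p * D q + q * D p)
    (a b c d e f : κ) :
    D (C a + C b * X 0 + C c * X 1 + C d * X 0 ^ 2 + C e * X 0 * X 1 + C f * X 1 ^ 2) =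
      D (C a) + C b * D (X 0) + X 0 * D (C b) + C c * D (X 1) + X 1 * D (C c) +
      2 * C d * X 0 * D (X 0) + X 0 ^ 2 * D (C d) + C e * X 0 * D (X 1) + C e * X 1 * D (X 0) +
      X 0 * X 1 * D (C e) + 2 * C f * X 1 * D (X 1) + X 1 ^ 2 * D (C f) := by
  have hsq : ∀ p, D (p ^ 2) = 2 * p * D p := by
    intro p; rw [pow_two, hmul]; ring
  simp only [hadd, hmul, hsq]
  ring

lemma sq_expand (j g h i : κ) :
    (C j * (C g + C h * X 0 + C i * X 1) ^ 2 : MvPolynomial (Fin 2) κ) =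
      C (j * g ^ 2) + C (2 * j * g * h) * X 0 + C (2 * j * g * i) * X 1 + C (j * h ^ 2) * X 0 ^ 2 +
        C (2 * j * h * i) * X 0 * X 1 + C (j * i ^ 2) * X 1 ^ 2 := by
  simp only [map_mul, map_pow, map_ofNat]
  ring

/-! ## The colength hypothesis -/

def Good (I : Ideal (MvPolynomial (Fin 2) κ)) : Prop :=
  I ≠ ⊤ ∧ ∀ x₀ y₀ : κ, ¬ ((X 0 - C x₀ : MvPolynomial (Fin 2) κ) ∈ I ∧
    (X 1 - C y₀ : MvPolynomial (Fin 2) κ) ∈ I)

lemma sub_C_eval_mem (I : Ideal (MvPolynomial (Fin 2) κ)) (v : Fin 2 → κ)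
    (hv : ∀ i, (X i - C (v i) : MvPolynomial (Fin 2) κ) ∈ I) (p : MvPolynomial (Fin 2) κ) :
    p - C (eval v p) ∈ I := by
  induction p using MvPolynomial.induction_on with
  | C a => simp
  | add p q hp hq =>
    have : p + q - C (eval v (p + q)) = (p - C (eval v p)) + (q - C (eval v q)) := by
      rw [map_add, map_add]; ring
    rw [this]; exact I.add_mem hp hq
  | mul_X p i hp =>
    have : p * X i - C (eval v (p * X i)) =
        (p - C (eval v p)) * X i + C (eval v p) * (X i - C (v i)) := by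
      rw [map_mul, eval_X, map_mul]; ring
    rw [this]; exact I.add_mem (I.mul_mem_right _ hp) (I.mul_mem_left _ (hv i))

lemma good_of {I : Ideal (MvPolynomial (Fin 2) κ)}
    (hI : ¬ (Module.Finite κ (MvPolynomial (Fin 2) κ ⧸ I) ∧
      Module.finrank κ (MvPolynomial (Fin 2) κ ⧸ I) ≤ 1)) : Good I := by
  constructor
  · intro h
    apply hI
    have : Subsingleton (MvPolynomial (Fin 2) κ ⧸ I) := Ideal.Quotient.subsingleton_iff.mpr h
    exact ⟨inferInstance, by rw [Module.finrank_zero_of_subsingleton]; exact zero_le_one⟩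
  · rintro x₀ y₀ ⟨hx, hy⟩
    apply hI
    have hv : ∀ i, (X i - C (![x₀, y₀] i) : MvPolynomial (Fin 2) κ) ∈ I := by
      intro i; fin_cases i
      · simpa using hx
      · simpa using hy
    have hsurj : ∀ z : MvPolynomial (Fin 2) κ ⧸ I,
        ∃ s : κ, s • (1 : MvPolynomial (Fin 2) κ ⧸ I) = z := by
      intro z
      obtain ⟨p, rfl⟩ := Ideal.Quotient.mk_surjective z
      refine ⟨eval ![x₀, y₀] p, ?_⟩
      have h1 : (eval ![x₀, y₀] p) • (1 : MvPolynomial (Fin 2) κ ⧸ I) =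
          Ideal.Quotient.mk I (C (eval ![x₀, y₀] p)) := by
        have : (C (eval ![x₀, y₀] p) : MvPolynomial (Fin 2) κ) =
            (eval ![x₀, y₀] p) • (1 : MvPolynomial (Fin 2) κ) := by
          rw [smul_eq_C_mul, mul_one]
        rw [this]; rfl
      rw [h1, Ideal.Quotient.eq, ← neg_sub]
      exact I.neg_mem (sub_C_eval_mem I _ hv p)
    refine ⟨Module.Finite.of_surjective (LinearMap.toSpanSingleton κ _ 1) (fun z => ?_),
      finrank_le_one 1 hsurj⟩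
    obtain ⟨s, hs⟩ := hsurj z
    exact ⟨s, by simpa using hs⟩

lemma minors {I : Ideal (MvPolynomial (Fin 2) κ)} (hG : Good I) (p₁ q₁ r₁ p₂ q₂ r₂ : κ)
    (h₁ : (C p₁ + C q₁ * X 0 + C r₁ * X 1 : MvPolynomial (Fin 2) κ) ∈ I)
    (h₂ : (C p₂ + C q₂ * X 0 + C r₂ * X 1 : MvPolynomial (Fin 2) κ) ∈ I) :
    q₁ * r₂ - q₂ * r₁ = 0 ∧ p₁ * q₂ - p₂ * q₁ = 0 ∧ p₁ * r₂ - p₂ * r₁ = 0 := by
  have hΔ : q₁ * r₂ - q₂ * r₁ = 0 := by
    by_contra hΔ
    obtain ⟨δ, hδdef⟩ : ∃ δ, δ = (q₁ * r₂ - q₂ * r₁)⁻¹ := ⟨_, rfl⟩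
    have hδ : δ * (q₁ * r₂ - q₂ * r₁) = 1 := by rw [hδdef, inv_mul_cancel₀ hΔ]
    have hinv : (C δ * (C q₁ * C r₂ - C q₂ * C r₁) : MvPolynomial (Fin 2) κ) = 1 := by
      rw [← map_mul, ← map_mul, ← map_sub, ← map_mul, hδ, map_one]
    have m1 : C δ * (C r₂ * (C p₁ + C q₁ * X 0 + C r₁ * X 1) -
        C r₁ * (C p₂ + C q₂ * X 0 + C r₂ * X 1)) ∈ I :=
      I.mul_mem_left _ (I.sub_mem (I.mul_mem_left _ h₁) (I.mul_mem_left _ h₂))
    have m2 : C δ * (C q₁ * (C p₂ + C q₂ * X 0 + C r₂ * X 1) -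
        C q₂ * (C p₁ + C q₁ * X 0 + C r₁ * X 1)) ∈ I :=
      I.mul_mem_left _ (I.sub_mem (I.mul_mem_left _ h₂) (I.mul_mem_left _ h₁))
    have e1 : (X 0 - C (-(δ * (r₂ * p₁ - r₁ * p₂))) : MvPolynomial (Fin 2) κ) =
        C δ * (C r₂ * (C p₁ + C q₁ * X 0 + C r₁ * X 1) -
        C r₁ * (C p₂ + C q₂ * X 0 + C r₂ * X 1)) := by
      simp only [map_neg, map_mul, map_sub]
      linear_combination (-(X 0 : MvPolynomial (Fin 2) κ)) * hinv
    have e2 : (X 1 - C (-(δ * (q₁ * p₂ - q₂ * p₁))) : MvPolynomial (Fin 2) κ) =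
        C δ * (C q₁ * (C p₂ + C q₂ * X 0 + C r₂ * X 1) -
        C q₂ * (C p₁ + C q₁ * X 0 + C r₁ * X 1)) := by
      simp only [map_neg, map_mul, map_sub]
      linear_combination (-(X 1 : MvPolynomial (Fin 2) κ)) * hinv
    exact hG.2 _ _ ⟨e1 ▸ m1, e2 ▸ m2⟩
  have hCΔ : (C q₁ * C r₂ - C q₂ * C r₁ : MvPolynomial (Fin 2) κ) = 0 := by
    rw [← map_mul, ← map_mul, ← map_sub, hΔ, map_zero]
  refine ⟨hΔ, ?_, ?_⟩
  · apply C_eq_zero_of_mem hG.1
    have : (C (p₁ * q₂ - p₂ * q₁) : MvPolynomial (Fin 2) κ) =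
        C q₂ * (C p₁ + C q₁ * X 0 + C r₁ * X 1) - C q₁ * (C p₂ + C q₂ * X 0 + C r₂ * X 1) := by
      simp only [map_mul, map_sub]
      linear_combination (X 1 : MvPolynomial (Fin 2) κ) * hCΔ
    rw [this]; exact I.sub_mem (I.mul_mem_left _ h₁) (I.mul_mem_left _ h₂)
  · apply C_eq_zero_of_mem hG.1
    have : (C (p₁ * r₂ - p₂ * r₁) : MvPolynomial (Fin 2) κ) =
        C r₂ * (C p₁ + C q₁ * X 0 + C r₁ * X 1) - C r₁ * (C p₂ + C q₂ * X 0 + C r₂ * X 1) := by
      simp only [map_mul, map_sub]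
      linear_combination (-(X 0 : MvPolynomial (Fin 2) κ)) * hCΔ
    rw [this]; exact I.sub_mem (I.mul_mem_left _ h₁) (I.mul_mem_left _ h₂)

lemma relations {I : Ideal (MvPolynomial (Fin 2) κ)} (hG : Good I) (a b c d e f : κ)
    (hmem : (C a + C b * X 0 + C c * X 1 + C d * X 0 ^ 2 + C e * X 0 * X 1 + C f * X 1 ^ 2 :
      MvPolynomial (Fin 2) κ) ∈ I ^ 2) :
    4 * a * d = b ^ 2 ∧ 2 * a * e = b * c ∧ b * e = 2 * c * d ∧ 4 * a * f = c ^ 2 ∧
      2 * b * f = c * e ∧ 4 * d * f = e ^ 2 := by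
  have hq := Ideal.pow_le_self two_ne_zero hmem
  have hadd0 : ∀ p q : MvPolynomial (Fin 2) κ, pderiv 0 (p + q) = pderiv 0 p + pderiv 0 q :=
    fun p q => map_add _ p q
  have hmul0 : ∀ p q : MvPolynomial (Fin 2) κ,
      pderiv 0 (p * q) = p * pderiv 0 q + q * pderiv 0 p :=
    fun p q => by rw [Derivation.leibniz, smul_eq_mul, smul_eq_mul]
  have hadd1 : ∀ p q : MvPolynomial (Fin 2) κ, pderiv 1 (p + q) = pderiv 1 p + pderiv 1 q :=
    fun p q => map_add _ p q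
  have hmul1 : ∀ p q : MvPolynomial (Fin 2) κ,
      pderiv 1 (p * q) = p * pderiv 1 q + q * pderiv 1 p :=
    fun p q => by rw [Derivation.leibniz, smul_eq_mul, smul_eq_mul]
  have hL1 : (C b + C (2 * d) * X 0 + C e * X 1 : MvPolynomial (Fin 2) κ) ∈ I := by
    have h0 := leib_mem (fun p => pderiv (0 : Fin 2) p) hadd0 hmul0 I hmem
    have e0 := D_quad (fun p => pderiv (0 : Fin 2) p) hadd0 hmul0 a b c d e f
    simp only [pderiv_C, pderiv_X_self, pderiv_X_of_ne (show (1 : Fin 2) ≠ 0 by decide),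
      mul_zero, mul_one, add_zero, zero_add] at e0
    beta_reduce at h0
    rw [e0] at h0
    have : (C b + C (2 * d) * X 0 + C e * X 1 : MvPolynomial (Fin 2) κ) =
        C b + 2 * C d * X 0 + C e * X 1 := by
      simp only [map_mul, map_ofNat]
    rw [this]; exact h0
  have hL2 : (C c + C e * X 0 + C (2 * f) * X 1 : MvPolynomial (Fin 2) κ) ∈ I := by
    have h0 := leib_mem (fun p => pderiv (1 : Fin 2) p) hadd1 hmul1 I hmem
    have e0 := D_quad (fun p => pderiv (1 : Fin 2) p) hadd1 hmul1 a b c d e f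
    simp only [pderiv_C, pderiv_X_self, pderiv_X_of_ne (show (0 : Fin 2) ≠ 1 by decide),
      mul_zero, mul_one, add_zero, zero_add] at e0
    beta_reduce at h0
    rw [e0] at h0
    have : (C c + C e * X 0 + C (2 * f) * X 1 : MvPolynomial (Fin 2) κ) =
        C c + C e * X 0 + 2 * C f * X 1 := by
      simp only [map_mul, map_ofNat]
    rw [this]; exact h0
  have hL3 : (C (2 * a) + C b * X 0 + C c * X 1 : MvPolynomial (Fin 2) κ) ∈ I := by
    have : (C (2 * a) + C b * X 0 + C c * X 1 : MvPolynomial (Fin 2) κ) =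
        2 * (C a + C b * X 0 + C c * X 1 + C d * X 0 ^ 2 + C e * X 0 * X 1 + C f * X 1 ^ 2)
          - X 0 * (C b + C (2 * d) * X 0 + C e * X 1) - X 1 * (C c + C e * X 0 + C (2 * f) * X 1) := by
      simp only [map_mul, map_ofNat]; ring
    rw [this]
    exact I.sub_mem (I.sub_mem (I.mul_mem_left _ hq) (I.mul_mem_left _ hL1)) (I.mul_mem_left _ hL2)
  obtain ⟨m1, m2, m3⟩ := minors hG (2 * a) b c b (2 * d) e hL3 hL1
  obtain ⟨m4, m5, m6⟩ := minors hG (2 * a) b c c e (2 * f) hL3 hL2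
  obtain ⟨m7, m8, m9⟩ := minors hG b (2 * d) e c e (2 * f) hL1 hL2
  refine ⟨by linear_combination m2, by linear_combination m3, by linear_combination m1,
    by linear_combination m6, by linear_combination m4, by linear_combination m7⟩

lemma solve_ne2 (h2 : (2 : κ) ≠ 0) (a b c d e f : κ)
    (hne : ¬ (a = 0 ∧ b = 0 ∧ c = 0 ∧ d = 0 ∧ e = 0 ∧ f = 0))
    (R1 : 4 * a * d = b ^ 2) (R2 : 2 * a * e = b * c) (R4 : 4 * a * f = c ^ 2)
    (R6 : 4 * d * f = e ^ 2) :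
    ∃ j g h i : κ, a = j * g ^ 2 ∧ b = 2 * j * g * h ∧ c = 2 * j * g * i ∧ d = j * h ^ 2 ∧
      e = 2 * j * h * i ∧ f = j * i ^ 2 := by
  have h4 : (4 : κ) ≠ 0 := by
    have : (4 : κ) = 2 * 2 := by norm_num
    rw [this]; exact mul_ne_zero h2 h2
  by_cases ha : a = 0
  · have hb : b = 0 := by
      have : b ^ 2 = 0 := by rw [← R1, ha]; ring
      exact (pow_eq_zero_iff two_ne_zero).mp this
    have hc : c = 0 := by
      have : c ^ 2 = 0 := by rw [← R4, ha]; ring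
      exact (pow_eq_zero_iff two_ne_zero).mp this
    by_cases hd : d = 0
    · have he : e = 0 := by
        have : e ^ 2 = 0 := by rw [← R6, hd]; ring
        exact (pow_eq_zero_iff two_ne_zero).mp this
      by_cases hf : f = 0
      · exact absurd ⟨ha, hb, hc, hd, he, hf⟩ hne
      · exact ⟨f, 0, 0, 1, by rw [ha]; ring, by rw [hb]; ring, by rw [hc]; ring, by rw [hd]; ring,
          by rw [he]; ring, by ring⟩
    · have hj : 4 * d * (4 * d)⁻¹ = 1 := mul_inv_cancel₀ (mul_ne_zero h4 hd)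
      refine ⟨(4 * d)⁻¹, 0, 2 * d, e, by rw [ha]; ring, by rw [hb]; ring, by rw [hc]; ring,
        ?_, ?_, ?_⟩
      · linear_combination (-d) * hj
      · linear_combination (-e) * hj
      · linear_combination (-f) * hj + (4 * d)⁻¹ * R6
  · have hj : 4 * a * (4 * a)⁻¹ = 1 := mul_inv_cancel₀ (mul_ne_zero h4 ha)
    refine ⟨(4 * a)⁻¹, 2 * a, b, c, ?_, ?_, ?_, ?_, ?_, ?_⟩
    · linear_combination (-a) * hj
    · linear_combination (-b) * hj
    · linear_combination (-c) * hj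
    · linear_combination (-d) * hj + (4 * a)⁻¹ * R1
    · linear_combination (-e) * hj + (2 * (4 * a)⁻¹) * R2
    · linear_combination (-f) * hj + (4 * a)⁻¹ * R4

end Groth.Agent.H8.Quadric
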