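import Mathlib

set_option autoImplicit false
universe u

namespace Groth.Agent.H8.Quadric

open MvPolynomial

variable {κ : Type u} [Field κ]

/-! ## Characteristic two: subfields and derivations -/

/-- `E + E t` when `t * t ∈ E`, in characteristic two. -/
def adj (h2 : (2 : κ) = 0) (E : Subfield κ) (t : κ) (ht : t * t ∈ E) : Subfield κ where
  carrier := {z | ∃ u ∈ E, ∃ v ∈ E, z = u + v * t}
  mul_mem' := by
    rintro _ _ ⟨u, hu, v, hv, rfl⟩ ⟨u', hu', v', hv', rfl⟩
    exact ⟨u * u' + v * v' * (t * t),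
      E.add_mem (E.mul_mem hu hu') (E.mul_mem (E.mul_mem hv hv') ht),
      u * v' + u' * v, E.add_mem (E.mul_mem hu hv') (E.mul_mem hu' hv), by ring⟩
  one_mem' := ⟨1, E.one_mem, 0, E.zero_mem, by ring⟩
  add_mem' := by
    rintro _ _ ⟨u, hu, v, hv, rfl⟩ ⟨u', hu', v', hv', rfl⟩
    exact ⟨u + u', E.add_mem hu hu', v + v', E.add_mem hv hv', by ring⟩
  zero_mem' := ⟨0, E.zero_mem, 0, E.zero_mem, by ring⟩
  neg_mem' := by
    rintro _ ⟨u, hu, v, hv, rfl⟩
    exact ⟨-u, E.neg_mem hu, -v, E.neg_mem hv, by ring⟩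
  inv_mem' := by
    rintro _ ⟨u, hu, v, hv, rfl⟩
    obtain ⟨x, hx⟩ : ∃ x, x = u + v * t := ⟨_, rfl⟩
    rw [← hx]
    have hN : x * x = u * u + v * v * (t * t) := by
      rw [hx]; linear_combination (u * v * t) * h2
    have hNm : x * x ∈ E := by
      rw [hN]; exact E.add_mem (E.mul_mem hu hu) (E.mul_mem (E.mul_mem hv hv) ht)
    have hinv : x⁻¹ = x * (x * x)⁻¹ := by
      by_cases hx0 : x = 0
      · simp [hx0]
      · field_simp
    refine ⟨u * (x * x)⁻¹, E.mul_mem hu (E.inv_mem hNm), v * (x * x)⁻¹,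
      E.mul_mem hv (E.inv_mem hNm), ?_⟩
    rw [hinv]
    nth_rewrite 1 [hx]
    ring

lemma mem_adj {h2 : (2 : κ) = 0} {E : Subfield κ} {t : κ} {ht : t * t ∈ E} {z : κ} :
    z ∈ adj h2 E t ht ↔ ∃ u ∈ E, ∃ v ∈ E, z = u + v * t := Iff.rfl

/-- `s ↦ s * s` as a ring hom in characteristic two. -/
def frob (h2 : (2 : κ) = 0) : κ →+* κ where
  toFun s := s * s
  map_one' := by ring
  map_mul' s t := by ring
  map_zero' := by ring
  map_add' s t := by linear_combination (s * t) * h2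

lemma frob_apply (h2 : (2 : κ) = 0) (s : κ) : frob h2 s = s * s := rfl

theorem exists_deriv (h2 : (2 : κ) = 0) (F : Subfield κ) (hF : ∀ s : κ, s * s ∈ F) (w : κ)
    (hw : w ∉ F) :
    ∃ θ : κ → κ, (∀ s t, θ (s + t) = θ s + θ t) ∧ (∀ s t, θ (s * t) = s * θ t + t * θ s) ∧
      θ w = 1 ∧ ∀ s ∈ F, θ s = 0 := by
  obtain ⟨E, hEmax⟩ := zorn_le₀ {E : Subfield κ | F ≤ E ∧ w ∉ E} (by
    intro c hc hchain
    rcases c.eq_empty_or_nonempty with rfl | hne
    · exact ⟨F, ⟨le_rfl, hw⟩, by simp⟩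
    · refine ⟨sSup c, ⟨?_, ?_⟩, fun z hz => le_sSup hz⟩
      · obtain ⟨E₀, hE₀⟩ := hne
        exact (hc hE₀).1.trans (le_sSup hE₀)
      · rw [Subfield.mem_sSup_of_directedOn hne hchain.directedOn]
        rintro ⟨E₀, hE₀, hwE⟩
        exact (hc hE₀).2 hwE)
  obtain ⟨⟨hFE, hwE⟩, hmax⟩ := hEmax
  have key : ∀ t : κ, ∃ u ∈ E, ∃ v ∈ E, t = u + v * w := by
    intro t
    by_cases ht : t ∈ E
    · exact ⟨t, ht, 0, E.zero_mem, by ring⟩
    have htt : t * t ∈ E := hFE (hF t)
    have hle : E ≤ adj h2 E t htt := fun x hx => mem_adj.mpr ⟨x, hx, 0, E.zero_mem, by ring⟩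
    have hw' : w ∈ adj h2 E t htt := by
      by_contra hcon
      have := hmax ⟨hFE.trans hle, hcon⟩ hle
      exact ht (this (mem_adj.mpr ⟨0, E.zero_mem, 1, E.one_mem, by ring⟩))
    obtain ⟨u, hu, v, hv, hwuv⟩ := mem_adj.mp hw'
    have hv0 : v ≠ 0 := by
      rintro rfl
      apply hwE
      rw [hwuv, zero_mul, add_zero]; exact hu
    have hvv : v * v⁻¹ = 1 := mul_inv_cancel₀ hv0
    refine ⟨-(u * v⁻¹), E.neg_mem (E.mul_mem hu (E.inv_mem hv)), v⁻¹, E.inv_mem hv, ?_⟩
    rw [hwuv]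
    linear_combination (-t) * hvv
  have huniq : ∀ u ∈ E, ∀ v ∈ E, ∀ u' ∈ E, ∀ v' ∈ E, u + v * w = u' + v' * w → v = v' := by
    intro u hu v hv u' hu' v' hv' h
    by_contra hne
    have hne' : v - v' ≠ 0 := sub_ne_zero.mpr hne
    have : w = (u' - u) * (v - v')⁻¹ := by
      rw [eq_mul_inv_iff_mul_eq₀ hne']
      linear_combination h
    apply hwE
    rw [this]
    exact E.mul_mem (E.sub_mem hu' hu) (E.inv_mem (E.sub_mem hv hv'))
  choose U hU V hV hUV using key
  refine ⟨V, ?_, ?_, ?_, ?_⟩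
  · intro s t
    refine huniq (U (s + t)) (hU _) _ (hV _) (U s + U t) (E.add_mem (hU _) (hU _)) _
      (E.add_mem (hV _) (hV _)) ?_
    have e1 := hUV s
    have e2 := hUV t
    have e3 := hUV (s + t)
    linear_combination (-1 : κ) * e3 + e1 + e2
  · intro s t
    have hww : w * w ∈ E := hFE (hF w)
    have hv : V (s * t) = U s * V t + U t * V s := by
      refine huniq (U (s * t)) (hU _) _ (hV _) (U s * U t + V s * V t * (w * w))
        (E.add_mem (E.mul_mem (hU _) (hU _)) (E.mul_mem (E.mul_mem (hV _) (hV _)) hww)) _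
        (E.add_mem (E.mul_mem (hU _) (hV _)) (E.mul_mem (hU _) (hV _))) ?_
      have e1 := hUV s
      have e2 := hUV t
      have e3 := hUV (s * t)
      linear_combination (-1 : κ) * e3 + (U t + V t * w) * e1 + s * e2
    have e1 := hUV s
    have e2 := hUV t
    rw [hv]
    linear_combination (-(V t)) * e1 + (-(V s)) * e2 - (V s * V t * w) * h2
  · have := huniq (U w) (hU _) _ (hV _) 0 E.zero_mem 1 E.one_mem (by
      have e1 := hUV w
      linear_combination (-1 : κ) * e1)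
    exact this
  · intro s hs
    have := huniq (U s) (hU _) _ (hV _) s (hFE hs) 0 E.zero_mem (by
      have e1 := hUV s
      linear_combination (-1 : κ) * e1)
    exact this

/-! ## Extending a derivation of `κ` to the polynomial ring -/

open TrivSqZeroExt in
lemma exists_ext (θ : κ → κ) (hadd : ∀ s t, θ (s + t) = θ s + θ t)
    (hmul : ∀ s t, θ (s * t) = s * θ t + t * θ s) :
    ∃ Θ : MvPolynomial (Fin 2) κ → MvPolynomial (Fin 2) κ,
      (∀ p q, Θ (p + q) = Θ p + Θ q) ∧ (∀ p q, Θ (p * q) = p * Θ q + q * Θ p) ∧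
      (∀ s, Θ (C s) = C (θ s)) ∧ ∀ i, Θ (X i) = 0 := by
  have h0 : θ 0 = 0 := by
    have := hadd 0 0
    rw [add_zero] at this
    linear_combination (-1 : κ) * this
  have h1 : θ 1 = 0 := by
    have := hmul 1 1
    rw [mul_one] at this
    linear_combination (-1 : κ) * this
  let ψ : κ →+* TrivSqZeroExt (MvPolynomial (Fin 2) κ) (MvPolynomial (Fin 2) κ) :=
    { toFun := fun s => inl (C s) + inr (C (θ s))
      map_one' := by simp [h1]
      map_mul' := by
        intro s t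
        apply TrivSqZeroExt.ext
        · simp
        · simp only [snd_add, snd_inl, snd_inr, snd_mul, fst_add, fst_inl, fst_inr, hmul, map_add,
            map_mul, smul_eq_mul, op_smul_eq_mul, zero_add, add_zero]
          ring
      map_zero' := by simp [h0]
      map_add' := by
        intro s t
        simp only [hadd, map_add, inl_add, inr_add]; abel }
  have hψ : ∀ s, ψ s = inl (C s) + inr (C (θ s)) := fun s => rfl
  let Ψ : MvPolynomial (Fin 2) κ →+*
      TrivSqZeroExt (MvPolynomial (Fin 2) κ) (MvPolynomial (Fin 2) κ) :=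
    eval₂Hom ψ (fun i => inl (X i))
  have hΨC : ∀ s, Ψ (C s) = inl (C s) + inr (C (θ s)) := fun s => by
    simp only [Ψ, eval₂Hom_C, hψ]
  have hΨX : ∀ i, Ψ (X i) = inl (X i) := fun i => by simp only [Ψ, eval₂Hom_X']
  have hfst : ∀ p, (Ψ p).fst = p := by
    intro p
    induction p using MvPolynomial.induction_on with
    | C a => rw [hΨC]; simp
    | add p q hp hq => rw [map_add, fst_add, hp, hq]
    | mul_X p i hp => rw [map_mul, fst_mul, hp, hΨX, fst_inl]
  refine ⟨fun p => (Ψ p).snd, ?_, ?_, ?_, ?_⟩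
  · intro p q; simp only [map_add, snd_add]
  · intro p q
    simp only [map_mul, snd_mul, hfst, smul_eq_mul, op_smul_eq_mul]; ring
  · intro s; simp only [hΨC, snd_add, snd_inl, snd_inr, zero_add]
  · intro i; simp only [hΨX, snd_inl]

end Groth.Agent.H8.Quadric
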