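import Mathlib
import Groth.Agent.Lib.Helper8.Quadric.Basic
import Groth.Agent.Lib.Helper8.Quadric.Deriv

set_option autoImplicit false
universe u

namespace Groth.Agent.H8.Quadric

open MvPolynomial

variable {κ : Type u} [Field κ]

lemma theta_mem (θ : κ → κ) (hadd : ∀ s t, θ (s + t) = θ s + θ t)
    (hmul : ∀ s t, θ (s * t) = s * θ t + t * θ s) (I : Ideal (MvPolynomial (Fin 2) κ))
    (a d f : κ)
    (hq : (C a + C d * X 0 ^ 2 + C f * X 1 ^ 2 : MvPolynomial (Fin 2) κ) ∈ I ^ 2) :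
    (C (θ a) + C (θ d) * X 0 ^ 2 + C (θ f) * X 1 ^ 2 : MvPolynomial (Fin 2) κ) ∈ I := by
  obtain ⟨Θ, hΘadd, hΘmul, hΘC, hΘX⟩ := exists_ext θ hadd hmul
  have := leib_mem Θ hΘadd hΘmul I hq
  have e : Θ (C a + C d * X 0 ^ 2 + C f * X 1 ^ 2) =
      C (θ a) + C (θ d) * X 0 ^ 2 + C (θ f) * X 1 ^ 2 := by
    have hsq : ∀ p, Θ (p ^ 2) = 2 * p * Θ p := by
      intro p; rw [pow_two, hΘmul]; ring
    simp only [hΘadd, hΘmul, hsq, hΘC, hΘX]; ring
  rwa [e] at this

/-! ## Normal forms of polynomials -/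

lemma exists_decomp (h : MvPolynomial (Fin 2) κ) :
    ∃ α β : MvPolynomial (Fin 2) κ, h = C (constantCoeff h) + α * X 0 + β * X 1 := by
  induction h using MvPolynomial.induction_on with
  | C a => exact ⟨0, 0, by simp⟩
  | add p q hp hq =>
    obtain ⟨α, β, h1⟩ := hp
    obtain ⟨α', β', h2⟩ := hq
    refine ⟨α + α', β + β', ?_⟩
    simp only [map_add]
    linear_combination h1 + h2
  | mul_X p i hp =>
    fin_cases i
    · exact ⟨p, 0, by simp⟩
    · exact ⟨0, p, by simp⟩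

lemma constCoeff_eq_zero_of_mem {I : Ideal (MvPolynomial (Fin 2) κ)} (A1 : I ≠ ⊤)
    (hx : (X 0 ^ 2 : MvPolynomial (Fin 2) κ) ∈ I) (hy : (X 1 ^ 2 : MvPolynomial (Fin 2) κ) ∈ I)
    {g : MvPolynomial (Fin 2) κ} (hg : g ∈ I) : constantCoeff g = 0 := by
  by_contra hc
  obtain ⟨α, β, hdec⟩ := exists_decomp g
  obtain ⟨c, hcdef⟩ : ∃ c, c = constantCoeff g := ⟨_, rfl⟩
  rw [← hcdef] at hdec hc
  obtain ⟨n, hn⟩ : ∃ n, n = α * X 0 + β * X 1 := ⟨_, rfl⟩
  have hn3 : n ^ 3 ∈ I := by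
    have : n ^ 3 = X 0 ^ 2 * (α ^ 3 * X 0 + 3 * α ^ 2 * β * X 1) +
        X 1 ^ 2 * (3 * α * β ^ 2 * X 0 + β ^ 3 * X 1) := by rw [hn]; ring
    rw [this]
    exact I.add_mem (I.mul_mem_right _ hx) (I.mul_mem_right _ hy)
  have hg' : g = C c + n := by rw [hn, ← add_assoc]; exact hdec
  have hc3 : (C (c ^ 3) : MvPolynomial (Fin 2) κ) ∈ I := by
    have e : (C (c ^ 3) : MvPolynomial (Fin 2) κ) = g * (C c ^ 2 - C c * n + n ^ 2) - n ^ 3 := by
      rw [hg', map_pow]; ring
    rw [e]; exact I.sub_mem (I.mul_mem_right _ hg) hn3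
  exact pow_ne_zero 3 hc (C_eq_zero_of_mem A1 hc3)

/-! ## Coefficient extraction via univariate polynomials -/

noncomputable def px : MvPolynomial (Fin 2) κ →+* Polynomial κ :=
  eval₂Hom Polynomial.C ![Polynomial.X, 0]

noncomputable def py : MvPolynomial (Fin 2) κ →+* Polynomial κ :=
  eval₂Hom Polynomial.C ![0, Polynomial.X]

@[simp] lemma px_C (s : κ) : px (C s : MvPolynomial (Fin 2) κ) = Polynomial.C s := by simp [px]
@[simp] lemma px_X0 : px (X 0 : MvPolynomial (Fin 2) κ) = Polynomial.X := by simp [px]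
@[simp] lemma px_X1 : px (X 1 : MvPolynomial (Fin 2) κ) = 0 := by simp [px]
@[simp] lemma py_C (s : κ) : py (C s : MvPolynomial (Fin 2) κ) = Polynomial.C s := by simp [py]
@[simp] lemma py_X0 : py (X 0 : MvPolynomial (Fin 2) κ) = 0 := by simp [py]
@[simp] lemma py_X1 : py (X 1 : MvPolynomial (Fin 2) κ) = Polynomial.X := by simp [py]

lemma coeff_two_mul {p q : Polynomial κ} (hp : p.coeff 0 = 0) (hq : q.coeff 0 = 0) :
    (p * q).coeff 2 = p.coeff 1 * q.coeff 1 := by
  rw [Polynomial.coeff_mul, Finset.Nat.sum_antidiagonal_eq_sum_range_succ_mk]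
  simp [Finset.sum_range_succ, hp, hq]

lemma lin_form_mem {I : Ideal (MvPolynomial (Fin 2) κ)}
    (hx : (X 0 ^ 2 : MvPolynomial (Fin 2) κ) ∈ I) (hy : (X 1 ^ 2 : MvPolynomial (Fin 2) κ) ∈ I)
    {g : MvPolynomial (Fin 2) κ} (hg : g ∈ I) (hc : constantCoeff g = 0) :
    (px g).coeff 0 = 0 ∧ (py g).coeff 0 = 0 ∧
      (C ((px g).coeff 1) * X 0 + C ((py g).coeff 1) * X 1 : MvPolynomial (Fin 2) κ) ∈ I := by
  obtain ⟨α, β, hdec⟩ := exists_decomp g
  rw [hc, map_zero, zero_add] at hdec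
  obtain ⟨α₁, α₂, hα⟩ := exists_decomp α
  obtain ⟨β₁, β₂, hβ⟩ := exists_decomp β
  obtain ⟨l, hl⟩ : ∃ l, l = constantCoeff α := ⟨_, rfl⟩
  obtain ⟨m, hm⟩ : ∃ m, m = constantCoeff β := ⟨_, rfl⟩
  rw [← hl] at hα
  rw [← hm] at hβ
  have hpx : px g = (Polynomial.C l + px α₁ * Polynomial.X) * Polynomial.X := by
    rw [hdec, hα]
    simp only [map_add, map_mul, px_C, px_X0, px_X1, mul_zero, add_zero]
  have hpy : py g = (Polynomial.C m + py β₂ * Polynomial.X) * Polynomial.X := by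
    rw [hdec, hβ]
    simp only [map_add, map_mul, py_C, py_X0, py_X1, mul_zero, add_zero, zero_add]
  have c0x : (px g).coeff 0 = 0 := by
    rw [hpx, Polynomial.mul_coeff_zero, Polynomial.coeff_X_zero, mul_zero]
  have c0y : (py g).coeff 0 = 0 := by
    rw [hpy, Polynomial.mul_coeff_zero, Polynomial.coeff_X_zero, mul_zero]
  have c1x : (px g).coeff 1 = l := by
    have h := Polynomial.coeff_mul_X (Polynomial.C l + px α₁ * Polynomial.X) 0
    rw [zero_add] at h
    rw [hpx, h, Polynomial.coeff_add, Polynomial.coeff_C_zero, Polynomial.mul_coeff_zero,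
      Polynomial.coeff_X_zero, mul_zero, add_zero]
  have c1y : (py g).coeff 1 = m := by
    have h := Polynomial.coeff_mul_X (Polynomial.C m + py β₂ * Polynomial.X) 0
    rw [zero_add] at h
    rw [hpy, h, Polynomial.coeff_add, Polynomial.coeff_C_zero, Polynomial.mul_coeff_zero,
      Polynomial.coeff_X_zero, mul_zero, add_zero]
  refine ⟨c0x, c0y, ?_⟩
  rw [c1x, c1y]
  have h1 : C l * X 0 + C m * X 1 + (α₂ + β₁) * X 0 * X 1 ∈ I := by
    have : C l * X 0 + C m * X 1 + (α₂ + β₁) * X 0 * X 1 =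
        g - α₁ * X 0 ^ 2 - β₂ * X 1 ^ 2 := by
      rw [hdec, hα, hβ]; ring
    rw [this]; exact I.sub_mem (I.sub_mem hg (I.mul_mem_left _ hx)) (I.mul_mem_left _ hy)
  by_cases hz : l = 0 ∧ m = 0
  · rw [hz.1, hz.2]; simp
  · have hxy : (X 0 * X 1 : MvPolynomial (Fin 2) κ) ∈ I := by
      by_cases hm0 : m = 0
      · have hl0 : l ≠ 0 := fun h => hz ⟨h, hm0⟩
        apply mem_of_C_mul_mem hl0
        have : C l * (X 0 * X 1) = (C l * X 0 + C m * X 1 + (α₂ + β₁) * X 0 * X 1) * X 1 -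
            (C m + (α₂ + β₁) * X 0) * X 1 ^ 2 := by ring
        rw [this]; exact I.sub_mem (I.mul_mem_right _ h1) (I.mul_mem_left _ hy)
      · apply mem_of_C_mul_mem hm0
        have : C m * (X 0 * X 1) = (C l * X 0 + C m * X 1 + (α₂ + β₁) * X 0 * X 1) * X 0 -
            (C l + (α₂ + β₁) * X 1) * X 0 ^ 2 := by ring
        rw [this]; exact I.sub_mem (I.mul_mem_right _ h1) (I.mul_mem_left _ hx)
    have : C l * X 0 + C m * X 1 = (C l * X 0 + C m * X 1 + (α₂ + β₁) * X 0 * X 1) -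
        (α₂ + β₁) * (X 0 * X 1) := by ring
    rw [this]; exact I.sub_mem h1 (I.mul_mem_left _ hxy)

theorem endgame {I : Ideal (MvPolynomial (Fin 2) κ)} (hG : Good I) (ρ : κ)
    (hx : (X 0 ^ 2 : MvPolynomial (Fin 2) κ) ∈ I) (hy : (X 1 ^ 2 : MvPolynomial (Fin 2) κ) ∈ I)
    (hq : (C ρ * X 0 ^ 2 + X 1 ^ 2 : MvPolynomial (Fin 2) κ) ∈ I ^ 2) : ∃ s, ρ = s * s := by
  have hlin : ∀ g ∈ I, (px g).coeff 0 = 0 ∧ (py g).coeff 0 = 0 ∧
      (C ((px g).coeff 1) * X 0 + C ((py g).coeff 1) * X 1 : MvPolynomial (Fin 2) κ) ∈ I :=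
    fun g hg => lin_form_mem hx hy hg (constCoeff_eq_zero_of_mem hG.1 hx hy hg)
  have hdet : ∀ g ∈ I, ∀ h ∈ I,
      (px g).coeff 1 * (py h).coeff 1 - (px h).coeff 1 * (py g).coeff 1 = 0 := by
    intro g hg h hh
    have h1 := (hlin g hg).2.2
    have h2 := (hlin h hh).2.2
    exact (minors hG 0 _ _ 0 _ _ (by rw [map_zero, zero_add]; exact h1)
      (by rw [map_zero, zero_add]; exact h2)).1
  have hpx0 : (px (C ρ * X 0 ^ 2 + X 1 ^ 2)).coeff 2 = ρ := by
    simp only [map_add, map_mul, map_pow, px_C, px_X0, px_X1]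
    simp
  have hpy0 : (py (C ρ * X 0 ^ 2 + X 1 ^ 2)).coeff 2 = 1 := by
    simp only [map_add, map_mul, map_pow, py_C, py_X0, py_X1]
    simp
  rw [pow_two] at hq
  by_cases hex : ∃ g₀ ∈ I, (py g₀).coeff 1 ≠ 0
  · obtain ⟨g₀, hg₀, hμ⟩ := hex
    obtain ⟨σ, hσdef⟩ : ∃ σ, σ = (px g₀).coeff 1 / (py g₀).coeff 1 := ⟨_, rfl⟩
    have hσ : ∀ g ∈ I, (px g).coeff 1 = σ * (py g).coeff 1 := by
      intro g hg
      rw [hσdef]
      field_simp
      linear_combination hdet g hg g₀ hg₀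
    have claim : ∀ z ∈ I * I, (px z).coeff 2 = σ * σ * (py z).coeff 2 := by
      intro z hz
      refine Submodule.smul_induction_on hz ?_ ?_
      · intro g hg h hh
        rw [smul_eq_mul, map_mul, map_mul, coeff_two_mul (hlin g hg).1 (hlin h hh).1,
          coeff_two_mul (hlin g hg).2.1 (hlin h hh).2.1, hσ g hg, hσ h hh]
        ring
      · intro x y hx' hy'
        rw [map_add, map_add, Polynomial.coeff_add, Polynomial.coeff_add, hx', hy']; ring
    have := claim _ hq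
    rw [hpx0, hpy0, mul_one] at this
    exact ⟨σ, this⟩
  · push Not at hex
    exfalso
    have claim : ∀ z ∈ I * I, (py z).coeff 2 = 0 := by
      intro z hz
      refine Submodule.smul_induction_on hz ?_ ?_
      · intro g hg h hh
        rw [smul_eq_mul, map_mul, coeff_two_mul (hlin g hg).2.1 (hlin h hh).2.1, hex g hg,
          zero_mul]
      · intro x y hx' hy'
        rw [map_add, Polynomial.coeff_add, hx', hy', add_zero]
    have := claim _ hq
    rw [hpy0] at this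
    exact one_ne_zero this

/-! ## Translations -/

noncomputable def tr (v u : κ) : MvPolynomial (Fin 2) κ →+* MvPolynomial (Fin 2) κ :=
  eval₂Hom C ![X 0 + C v, X 1 + C u]

@[simp] lemma tr_C (v u s : κ) : tr v u (C s) = C s := by simp [tr]
@[simp] lemma tr_X0 (v u : κ) : tr v u (X 0) = X 0 + C v := by simp [tr]
@[simp] lemma tr_X1 (v u : κ) : tr v u (X 1) = X 1 + C u := by simp [tr]

lemma tr_tr (v u : κ) (g : MvPolynomial (Fin 2) κ) : tr (-v) (-u) (tr v u g) = g := by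
  have : (tr (-v) (-u)).comp (tr v u) = RingHom.id _ := by
    apply MvPolynomial.ringHom_ext
    · intro r; simp
    · intro i; fin_cases i <;> simp
  exact DFunLike.congr_fun this g

lemma tr_back (v u : κ) (I : Ideal (MvPolynomial (Fin 2) κ)) {g : MvPolynomial (Fin 2) κ}
    (hg : g ∈ I.map (tr v u)) : tr (-v) (-u) g ∈ I := by
  have : I.map (tr v u) ≤ I.comap (tr (-v) (-u)) :=
    Ideal.map_le_iff_le_comap.mpr (fun p hp => by
      rw [Ideal.mem_comap, Ideal.mem_comap, tr_tr]; exact hp)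
  exact this hg

lemma map_tr_good {I : Ideal (MvPolynomial (Fin 2) κ)} (hG : Good I) (v u : κ) :
    Good (I.map (tr v u)) := by
  constructor
  · intro h
    apply hG.1
    rw [Ideal.eq_top_iff_one]
    have h1 : (1 : MvPolynomial (Fin 2) κ) ∈ I.map (tr v u) := by rw [h]; exact Submodule.mem_top
    have := tr_back v u I h1
    rwa [map_one] at this
  · rintro x₀ y₀ ⟨h1, h2⟩
    apply hG.2 (x₀ + v) (y₀ + u)
    constructor
    · have := tr_back v u I h1
      rw [map_sub, tr_X0, tr_C] at this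
      have e : (X 0 - C (x₀ + v) : MvPolynomial (Fin 2) κ) = X 0 + C (-v) - C x₀ := by
        simp only [map_add, map_neg]; ring
      rw [e]; exact this
    · have := tr_back v u I h2
      rw [map_sub, tr_X1, tr_C] at this
      have e : (X 1 - C (y₀ + u) : MvPolynomial (Fin 2) κ) = X 1 + C (-u) - C y₀ := by
        simp only [map_add, map_neg]; ring
      rw [e]; exact this

end Groth.Agent.H8.Quadric

namespace Groth.Agent.H8.Quadric

open MvPolynomial

variable {κ : Type u} [Field κ]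

theorem char2_main (h2 : (2 : κ) = 0) {I : Ideal (MvPolynomial (Fin 2) κ)} (hG : Good I)
    (a d f : κ)
    (hq : (C a + C d * X 0 ^ 2 + C f * X 1 ^ 2 : MvPolynomial (Fin 2) κ) ∈ I ^ 2) :
    ∃ j g h i : κ, a = j * g ^ 2 ∧ d = j * h ^ 2 ∧ f = j * i ^ 2 := by
  have key : ∀ (a' d' f' : κ),
      (C a' + C d' * X 0 ^ 2 + C f' * X 1 ^ 2 : MvPolynomial (Fin 2) κ) ∈ I ^ 2 →
      ∀ θ : κ → κ, (∀ s t, θ (s + t) = θ s + θ t) → (∀ s t, θ (s * t) = s * θ t + t * θ s) →
      θ a' = 1 → θ d' = 0 → θ f' = 0 → False := by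
    intro a' d' f' hq' θ hadd hmul h1 h2' h3
    have := theta_mem θ hadd hmul I a' d' f' hq'
    simp only [h1, h2', h3, map_zero, zero_mul, add_zero] at this
    exact one_ne_zero (C_eq_zero_of_mem hG.1 this)
  have h2R : (2 : MvPolynomial (Fin 2) κ) = 0 := by
    have : (C (2 : κ) : MvPolynomial (Fin 2) κ) = 2 := map_ofNat C 2
    rw [← this, h2, map_zero]
  have hFmem : ∀ s : κ, s * s ∈ (frob h2).fieldRange :=
    fun s => RingHom.mem_fieldRange.mpr ⟨s, rfl⟩
  by_cases hf : f = 0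
  · by_cases hd : d = 0
    · exact ⟨a, 1, 0, 0, by ring, by rw [hd]; ring, by rw [hf]; ring⟩
    · by_cases ha : a / d ∈ (frob h2).fieldRange
      · obtain ⟨g, hg⟩ := RingHom.mem_fieldRange.mp ha
        have hg' : g * g = a / d := hg
        rw [eq_div_iff hd] at hg'
        exact ⟨d, g, 1, 0, by linear_combination (-1 : κ) * hg', by ring, by rw [hf]; ring⟩
      · exfalso
        obtain ⟨θ, hadd, hmul, hw, hF⟩ := exists_deriv h2 _ hFmem (a / d) ha
        have hdd : (C d⁻¹ * C d : MvPolynomial (Fin 2) κ) = 1 := by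
          rw [← map_mul, inv_mul_cancel₀ hd, map_one]
        have hq' : (C (a / d) + C 1 * X 0 ^ 2 + C 0 * X 1 ^ 2 : MvPolynomial (Fin 2) κ) ∈
            I ^ 2 := by
          have : (C (a / d) + C 1 * X 0 ^ 2 + C 0 * X 1 ^ 2 : MvPolynomial (Fin 2) κ) =
              C d⁻¹ * (C a + C d * X 0 ^ 2 + C f * X 1 ^ 2) := by
            rw [hf, div_eq_mul_inv]
            simp only [map_mul, map_one, map_zero]
            linear_combination (-(X 0 ^ 2 : MvPolynomial (Fin 2) κ)) * hdd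
          rw [this]; exact Ideal.mul_mem_left _ _ hq
        exact key _ _ _ hq' θ hadd hmul hw (hF 1 (one_mem _)) (hF 0 (zero_mem _))
  · have hff : (C f⁻¹ * C f : MvPolynomial (Fin 2) κ) = 1 := by
      rw [← map_mul, inv_mul_cancel₀ hf, map_one]
    obtain ⟨a', ha'⟩ : ∃ a', a' = a / f := ⟨_, rfl⟩
    obtain ⟨d', hd'⟩ : ∃ d', d' = d / f := ⟨_, rfl⟩
    have haf : a = f * a' := by rw [ha']; field_simp
    have hdf : d = f * d' := by rw [hd']; field_simp
    have hq' : (C a' + C d' * X 0 ^ 2 + C 1 * X 1 ^ 2 : MvPolynomial (Fin 2) κ) ∈ I ^ 2 := by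
      have : (C a' + C d' * X 0 ^ 2 + C 1 * X 1 ^ 2 : MvPolynomial (Fin 2) κ) =
          C f⁻¹ * (C a + C d * X 0 ^ 2 + C f * X 1 ^ 2) := by
        rw [haf, hdf]
        simp only [map_mul, map_one]
        linear_combination
          (-(C a' + C d' * X 0 ^ 2 + X 1 ^ 2 : MvPolynomial (Fin 2) κ)) * hff
      rw [this]; exact Ideal.mul_mem_left _ _ hq
    by_cases hd : d' ∈ (frob h2).fieldRange
    · by_cases ha : a' ∈ (frob h2).fieldRange
      · obtain ⟨g, hg⟩ := RingHom.mem_fieldRange.mp ha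
        obtain ⟨h, hh⟩ := RingHom.mem_fieldRange.mp hd
        have hg' : g * g = a' := hg
        have hh' : h * h = d' := hh
        exact ⟨f, g, h, 1, by rw [haf, ← hg']; ring, by rw [hdf, ← hh']; ring, by ring⟩
      · exfalso
        obtain ⟨θ, hadd, hmul, hw, hF⟩ := exists_deriv h2 _ hFmem a' ha
        exact key _ _ _ hq' θ hadd hmul hw (hF d' hd) (hF 1 (one_mem _))
    · have hdd : d' * d' ∈ (frob h2).fieldRange := hFmem d'
      by_cases ha : a' ∈ adj h2 (frob h2).fieldRange d' hdd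
      · exfalso
        apply hd
        obtain ⟨u', hu', v', hv', hauv⟩ := mem_adj.mp ha
        obtain ⟨u, hu⟩ := RingHom.mem_fieldRange.mp hu'
        obtain ⟨v, hv⟩ := RingHom.mem_fieldRange.mp hv'
        have hu2 : u * u = u' := hu
        have hv2 : v * v = v' := hv
        obtain ⟨θ, hadd, hmul, hw, hF⟩ := exists_deriv h2 _ hFmem d' hd
        have hθa : θ a' = v * v := by
          rw [hauv, hadd, hmul, hF _ hu', hF _ hv', hw, hv2]; ring
        have hθ1 : θ 1 = 0 := hF 1 (one_mem _)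
        have hP := theta_mem θ hadd hmul I a' d' 1 hq'
        rw [hθa, hw, hθ1] at hP
        have hP2 : ((X 0 + C v) ^ 2 : MvPolynomial (Fin 2) κ) ∈ I := by
          have : ((X 0 + C v) ^ 2 : MvPolynomial (Fin 2) κ) =
              C (v * v) + C 1 * X 0 ^ 2 + C 0 * X 1 ^ 2 := by
            simp only [map_mul, map_one, map_zero]
            linear_combination (X 0 * C v : MvPolynomial (Fin 2) κ) * h2R
          rw [this]; exact hP
        have hqI : (C a' + C d' * X 0 ^ 2 + C 1 * X 1 ^ 2 : MvPolynomial (Fin 2) κ) ∈ I :=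
          Ideal.pow_le_self two_ne_zero hq'
        have hdecomp : (C a' + C d' * X 0 ^ 2 + C 1 * X 1 ^ 2 : MvPolynomial (Fin 2) κ) =
            C d' * (X 0 + C v) ^ 2 + (X 1 + C u) ^ 2 := by
          rw [hauv, ← hu2, ← hv2]
          simp only [map_add, map_mul, map_one]
          linear_combination
            (-(C d' * X 0 * C v + X 1 * C u) : MvPolynomial (Fin 2) κ) * h2R
        have hQ2 : ((X 1 + C u) ^ 2 : MvPolynomial (Fin 2) κ) ∈ I := by
          have : ((X 1 + C u) ^ 2 : MvPolynomial (Fin 2) κ) =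
              (C a' + C d' * X 0 ^ 2 + C 1 * X 1 ^ 2) - C d' * (X 0 + C v) ^ 2 := by
            rw [hdecomp]; ring
          rw [this]; exact I.sub_mem hqI (I.mul_mem_left _ hP2)
        have hG' := map_tr_good hG (-v) (-u)
        have e0 : tr (-v) (-u) (X 0 + C v) = X 0 := by simp
        have e1 : tr (-v) (-u) (X 1 + C u) = X 1 := by simp
        have hx' : (X 0 ^ 2 : MvPolynomial (Fin 2) κ) ∈ I.map (tr (-v) (-u)) := by
          have := Ideal.mem_map_of_mem (tr (-v) (-u)) hP2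
          rwa [map_pow, e0] at this
        have hy' : (X 1 ^ 2 : MvPolynomial (Fin 2) κ) ∈ I.map (tr (-v) (-u)) := by
          have := Ideal.mem_map_of_mem (tr (-v) (-u)) hQ2
          rwa [map_pow, e1] at this
        have hq'' : (C d' * X 0 ^ 2 + X 1 ^ 2 : MvPolynomial (Fin 2) κ) ∈
            (I.map (tr (-v) (-u))) ^ 2 := by
          rw [← Ideal.map_pow]
          have := Ideal.mem_map_of_mem (tr (-v) (-u)) hq'
          rwa [hdecomp, map_add, map_mul, map_pow, map_pow, e0, e1, tr_C] at this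
        obtain ⟨s, hs⟩ := endgame hG' d' hx' hy' hq''
        exact RingHom.mem_fieldRange.mpr ⟨s, hs.symm⟩
      · exfalso
        obtain ⟨θ, hadd, hmul, hw, hF⟩ := exists_deriv h2 (adj h2 _ d' hdd)
          (fun s => mem_adj.mpr ⟨s * s, hFmem s, 0, zero_mem _, by ring⟩) a' ha
        exact key _ _ _ hq' θ hadd hmul hw
          (hF d' (mem_adj.mpr ⟨0, zero_mem _, 1, one_mem _, by ring⟩)) (hF 1 (one_mem _))

theorem main (κ : Type u) [Field κ] (I : Ideal (MvPolynomial (Fin 2) κ))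
    (hI : ¬ (Module.Finite κ (MvPolynomial (Fin 2) κ ⧸ I) ∧
      Module.finrank κ (MvPolynomial (Fin 2) κ ⧸ I) ≤ 1))
    (a b c d e f : κ) (hne : (a, b, c, d, e, f) ≠ (0, 0, 0, 0, 0, 0))
    (hmem : (C a + C b * X 0 + C c * X 1 + C d * X 0 ^ 2 + C e * X 0 * X 1 + C f * X 1 ^ 2 :
      MvPolynomial (Fin 2) κ) ∈ I ^ 2) :
    ∃ j g h i : κ, (C a + C b * X 0 + C c * X 1 + C d * X 0 ^ 2 + C e * X 0 * X 1 +
      C f * X 1 ^ 2 : MvPolynomial (Fin 2) κ) =
      C j * (C g + C h * X 0 + C i * X 1) ^ 2 := by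
  have hG := good_of hI
  obtain ⟨R1, R2, R3, R4, R5, R6⟩ := relations hG a b c d e f hmem
  suffices hs : ∃ j g h i : κ, a = j * g ^ 2 ∧ b = 2 * j * g * h ∧ c = 2 * j * g * i ∧
      d = j * h ^ 2 ∧ e = 2 * j * h * i ∧ f = j * i ^ 2 by
    obtain ⟨j, g, h, i, e1, e2, e3, e4, e5, e6⟩ := hs
    exact ⟨j, g, h, i, by rw [sq_expand, ← e1, ← e2, ← e3, ← e4, ← e5, ← e6]⟩
  by_cases h2 : (2 : κ) = 0
  · have h4 : (4 : κ) = 0 := by
      have : (4 : κ) = 2 * 2 := by norm_num
      rw [this, h2, mul_zero]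
    have hb : b = 0 := by
      have : b ^ 2 = 0 := by rw [← R1, h4]; ring
      exact (pow_eq_zero_iff two_ne_zero).mp this
    have hc : c = 0 := by
      have : c ^ 2 = 0 := by rw [← R4, h4]; ring
      exact (pow_eq_zero_iff two_ne_zero).mp this
    have he : e = 0 := by
      have : e ^ 2 = 0 := by rw [← R6, h4]; ring
      exact (pow_eq_zero_iff two_ne_zero).mp this
    subst hb hc he
    have hq : (C a + C d * X 0 ^ 2 + C f * X 1 ^ 2 : MvPolynomial (Fin 2) κ) ∈ I ^ 2 := by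
      simpa only [map_zero, zero_mul, add_zero] using hmem
    obtain ⟨j, g, h, i, e1, e2, e3⟩ := char2_main h2 hG a d f hq
    exact ⟨j, g, h, i, e1, by linear_combination (-(j * g * h)) * h2,
      by linear_combination (-(j * g * i)) * h2, e2,
      by linear_combination (-(j * h * i)) * h2, e3⟩
  · refine solve_ne2 h2 a b c d e f ?_ R1 R2 R4 R6
    rintro ⟨rfl, rfl, rfl, rfl, rfl, rfl⟩
    exact hne rfl

end Groth.Agent.H8.Quadric
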